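import Cfsg.Agent.Lib.G2Three.Form

/-!
# Computations with the explicit matrices
-/

set_option autoImplicit false
set_option maxRecDepth 8000

namespace Cfsg.Agent.G2Three

open Matrix

theorem pres_root : ∀ r : Fin 12, Pres (root r) := by decide +kernel

theorem table7 : p7 0 = 1 ∧ (∀ i : Fin 7, p7 i.castSucc * g7 = p7 i.succ) ∧ p7 7 = 1 ∧ g7 ≠ 1 := by
  decide +kernel

theorem table13 : p13 0 = 1 ∧ (∀ i : Fin 13, p13 i.castSucc * g13 = p13 i.succ) ∧ p13 13 = 1 ∧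
    g13 ≠ 1 := by
  decide +kernel

theorem word7 : root 2 * root 4 * root 9 * root 5 = g7 := by decide +kernel

theorem word13 : root 0 * root 9 * root 4 = g13 := by decide +kernel

theorem word6 : root 8 * root 3 * root 3 = g6 := by decide +kernel

theorem order6 : g6 * g6 * g6 * g6 * g6 * g6 = 1 ∧ g6 * g6 ≠ 1 ∧ g6 * g6 * g6 ≠ 1 := by decide +kernel

theorem krylov7 : (Matrix.of fun k (i : Fin 7) => p7 ⟨i, by omega⟩ k 0) * k7 = 1 := by decide +kernel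

theorem krylov13 : (Matrix.of fun k (i : Fin 7) => p13 ⟨i, by omega⟩ k 2) * k13 = 1 := by decide +kernel

theorem frob7 : d7 = Matrix.of fun k i : Fin 7 =>
    p7 (Fin.ofNat 8 (3 * (i : ℕ) % 7)) k 0 - p7 (Fin.ofNat 8 (i : ℕ)) k 0 := by decide +kernel

theorem frob13 : d13 = Matrix.of fun k i : Fin 7 =>
    p13 (Fin.ofNat 14 (3 * (i : ℕ) % 13)) k 2 - p13 (Fin.ofNat 14 (i : ℕ)) k 2 := by decide +kernel

theorem invol7 : ∀ a0 a1 a2 a3 a4 a5 a6 : ZMod 3,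
    (∀ k : Fin 7, d7 k 0 * a0 + d7 k 1 * a1 + d7 k 2 * a2 + d7 k 3 * a3 + d7 k 4 * a4 + d7 k 5 * a5 +
      d7 k 6 * a6 = 0) →
    comb p7 (by norm_num) ![a0, a1, a2, a3, a4, a5, a6] * comb p7 (by norm_num) ![a0, a1, a2, a3, a4, a5, a6] = 1 →
    comb p7 (by norm_num) ![a0, a1, a2, a3, a4, a5, a6] = 1 ∨
      ¬ Pres (comb p7 (by norm_num) ![a0, a1, a2, a3, a4, a5, a6]) := by
  decide +kernel

theorem invol13 : ∀ a0 a1 a2 a3 a4 a5 a6 : ZMod 3,
    (∀ k : Fin 7, d13 k 0 * a0 + d13 k 1 * a1 + d13 k 2 * a2 + d13 k 3 * a3 + d13 k 4 * a4 +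
      d13 k 5 * a5 + d13 k 6 * a6 = 0) →
    comb p13 (by norm_num) ![a0, a1, a2, a3, a4, a5, a6] * comb p13 (by norm_num) ![a0, a1, a2, a3, a4, a5, a6] = 1 →
    comb p13 (by norm_num) ![a0, a1, a2, a3, a4, a5, a6] = 1 ∨
      ¬ Pres (comb p13 (by norm_num) ![a0, a1, a2, a3, a4, a5, a6]) := by
  decide +kernel

end Cfsg.Agent.G2Three
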