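import Mathlib.Data.ZMod.Basic
import Mathlib.Data.Matrix.Basic
import Mathlib.LinearAlgebra.Matrix.Notation
import Mathlib.Data.Fin.VecNotation

/-!
# Explicit matrices for the seven-dimensional representation of `G₂(3)`
-/

set_option autoImplicit false

namespace Cfsg.Agent.G2Three

/-- Matrices of degree seven over the field with three elements. -/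
abbrev M7 : Type := Matrix (Fin 7) (Fin 7) (ZMod 3)

/-- The root matrices. -/
def root : Fin 12 → M7 := ![
  !![1, 0, 0, 0, 1, 0, 0; 0, 1, 0, 0, 0, 2, 0; 0, 0, 1, 0, 0, 0, 0; 0, 0, 0, 1, 0, 0, 0; 0, 0, 0, 0, 1, 0, 0; 0, 0, 0, 0, 0, 1, 0; 0, 0, 0, 0, 0, 0, 1],
  !![1, 0, 0, 1, 0, 0, 0; 0, 1, 0, 0, 0, 0, 0; 0, 0, 1, 0, 0, 2, 0; 0, 0, 0, 1, 0, 0, 0; 0, 0, 0, 0, 1, 0, 0; 0, 0, 0, 0, 0, 1, 0; 0, 0, 0, 0, 0, 0, 1],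
  !![1, 0, 0, 0, 0, 2, 1; 0, 1, 0, 1, 0, 0, 0; 0, 0, 1, 0, 2, 0, 0; 0, 0, 0, 1, 0, 0, 0; 0, 0, 0, 0, 1, 0, 0; 0, 0, 0, 0, 0, 1, 0; 0, 0, 0, 0, 0, 1, 1],
  !![1, 0, 1, 0, 0, 0, 0; 0, 1, 0, 0, 2, 0, 2; 0, 0, 1, 0, 0, 0, 0; 0, 0, 0, 1, 0, 2, 0; 0, 0, 0, 0, 1, 0, 0; 0, 0, 0, 0, 0, 1, 0; 0, 0, 0, 0, 2, 0, 1],
  !![1, 2, 0, 0, 0, 0, 0; 0, 1, 0, 0, 0, 0, 0; 0, 0, 1, 2, 0, 0, 2; 0, 0, 0, 1, 0, 0, 0; 0, 0, 0, 0, 1, 1, 0; 0, 0, 0, 0, 0, 1, 0; 0, 0, 0, 2, 0, 0, 1],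
  !![1, 0, 0, 0, 0, 0, 0; 0, 1, 2, 0, 0, 0, 0; 0, 0, 1, 0, 0, 0, 0; 0, 0, 0, 1, 1, 0, 0; 0, 0, 0, 0, 1, 0, 0; 0, 0, 0, 0, 0, 1, 0; 0, 0, 0, 0, 0, 0, 1],
  !![1, 0, 0, 0, 0, 0, 0; 0, 1, 0, 0, 0, 0, 0; 0, 2, 1, 0, 0, 0, 0; 0, 0, 0, 1, 0, 0, 0; 0, 0, 0, 1, 1, 0, 0; 0, 0, 0, 0, 0, 1, 0; 0, 0, 0, 0, 0, 0, 1],
  !![1, 0, 0, 0, 0, 0, 0; 2, 1, 0, 0, 0, 0, 0; 0, 0, 1, 0, 0, 0, 0; 0, 0, 2, 1, 0, 0, 1; 0, 0, 0, 0, 1, 0, 0; 0, 0, 0, 0, 1, 1, 0; 0, 0, 1, 0, 0, 0, 1],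
  !![1, 0, 0, 0, 0, 0, 0; 0, 1, 0, 0, 0, 0, 0; 1, 0, 1, 0, 0, 0, 0; 0, 0, 0, 1, 0, 0, 0; 0, 2, 0, 0, 1, 0, 1; 0, 0, 0, 2, 0, 1, 0; 0, 1, 0, 0, 0, 0, 1],
  !![1, 0, 0, 0, 0, 0, 0; 0, 1, 0, 0, 0, 0, 0; 0, 0, 1, 0, 0, 0, 0; 0, 1, 0, 1, 0, 0, 0; 0, 0, 2, 0, 1, 0, 0; 2, 0, 0, 0, 0, 1, 2; 2, 0, 0, 0, 0, 0, 1],
  !![1, 0, 0, 0, 0, 0, 0; 0, 1, 0, 0, 0, 0, 0; 0, 0, 1, 0, 0, 0, 0; 1, 0, 0, 1, 0, 0, 0; 0, 0, 0, 0, 1, 0, 0; 0, 0, 2, 0, 0, 1, 0; 0, 0, 0, 0, 0, 0, 1],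
  !![1, 0, 0, 0, 0, 0, 0; 0, 1, 0, 0, 0, 0, 0; 0, 0, 1, 0, 0, 0, 0; 0, 0, 0, 1, 0, 0, 0; 1, 0, 0, 0, 1, 0, 0; 0, 2, 0, 0, 0, 1, 0; 0, 0, 0, 0, 0, 0, 1]]

/-- The terms of the invariant trilinear form. -/
def terms : List (Fin 7 × Fin 7 × Fin 7 × ZMod 3) :=
  [(0, 3, 4, 1), (3, 4, 0, 1), (4, 0, 3, 1), (3, 0, 4, 2), (0, 4, 3, 2), (4, 3, 0, 2), (0, 5, 6, 2), (5, 6, 0, 2), (6, 0, 5, 2), (5, 0, 6, 1), (0, 6, 5, 1), (6, 5, 0, 1), (1, 2, 5, 1), (2, 5, 1, 1), (5, 1, 2, 1), (2, 1, 5, 2), (1, 5, 2, 2), (5, 2, 1, 2), (1, 4, 6, 1), (4, 6, 1, 1), (6, 1, 4, 1), (4, 1, 6, 2), (1, 6, 4, 2), (6, 4, 1, 2), (2, 3, 6, 1), (3, 6, 2, 1), (6, 2, 3, 1), (3, 2, 6, 2), (2,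 6, 3, 2), (6, 3, 2, 2)]

/-- An element of order 7. -/
def g7 : M7 := !![1, 1, 2, 2, 2, 2, 2; 0, 2, 1, 1, 1, 0, 0; 2, 2, 0, 2, 1, 2, 0; 0, 1, 2, 1, 1, 0, 0; 2, 0, 2, 0, 1, 1, 2; 2, 0, 0, 0, 0, 1, 2; 1, 2, 1, 2, 2, 1, 0]

/-- The inverse of its Krylov matrix. -/
def k7 : M7 := !![1, 2, 2, 2, 1, 0, 2; 0, 0, 0, 1, 2, 2, 2; 0, 2, 1, 2, 2, 2, 2; 0, 0, 0, 0, 0, 1, 1; 0, 0, 0, 2, 0, 2, 2; 0, 1, 1, 1, 2, 2, 2; 0, 0, 0, 2, 1, 0, 1]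

/-- Its powers. -/
def p7 : Fin 8 → M7 := ![
  !![1, 0, 0, 0, 0, 0, 0; 0, 1, 0, 0, 0, 0, 0; 0, 0, 1, 0, 0, 0, 0; 0, 0, 0, 1, 0, 0, 0; 0, 0, 0, 0, 1, 0, 0; 0, 0, 0, 0, 0, 1, 0; 0, 0, 0, 0, 0, 0, 1],
  !![1, 1, 2, 2, 2, 2, 2; 0, 2, 1, 1, 1, 0, 0; 2, 2, 0, 2, 1, 2, 0; 0, 1, 2, 1, 1, 0, 0; 2, 0, 2, 0, 1, 1, 2; 2, 0, 0, 0, 0, 1, 2; 1, 2, 1, 2, 2, 1, 0],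
  !![0, 1, 1, 1, 1, 0, 1; 1, 1, 0, 2, 2, 0, 2; 2, 2, 0, 2, 0, 1, 1; 0, 1, 2, 0, 2, 2, 2; 0, 1, 2, 0, 2, 0, 2; 0, 0, 0, 2, 2, 1, 0; 0, 0, 0, 2, 0, 1, 2],
  !![2, 1, 0, 0, 0, 1, 2; 1, 0, 1, 0, 2, 0, 0; 2, 1, 2, 1, 1, 0, 0; 2, 1, 1, 0, 0, 1, 2; 1, 1, 1, 0, 0, 2, 1; 0, 2, 2, 2, 1, 0, 0; 1, 0, 0, 0, 0, 0, 2],
  !![0, 2, 1, 0, 0, 1, 0; 1, 0, 0, 1, 2, 0, 0; 2, 0, 0, 1, 0, 0, 0; 2, 1, 1, 2, 1, 0, 0; 2, 1, 1, 1, 0, 1, 0; 0, 1, 2, 2, 1, 2, 2; 0, 2, 1, 0, 0, 1, 2],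
  !![1, 0, 2, 1, 0, 0, 2; 2, 2, 2, 0, 2, 1, 0; 2, 0, 0, 2, 2, 1, 1; 0, 2, 2, 0, 0, 1, 0; 0, 1, 1, 2, 1, 1, 0; 0, 0, 0, 2, 1, 0, 0; 0, 1, 1, 2, 1, 2, 2],
  !![1, 1, 0, 2, 0, 2, 2; 0, 1, 1, 1, 1, 2, 1; 0, 0, 1, 2, 1, 2, 1; 0, 2, 2, 0, 1, 2, 2; 0, 0, 1, 2, 2, 1, 1; 2, 2, 0, 2, 0, 1, 2; 1, 1, 0, 0, 0, 1, 0],
  !![1, 0, 0, 0, 0, 0, 0; 0, 1, 0, 0, 0, 0, 0; 0, 0, 1, 0, 0, 0, 0; 0, 0, 0, 1, 0, 0, 0; 0, 0, 0, 0, 1, 0, 0; 0, 0, 0, 0, 0, 1, 0; 0, 0, 0, 0, 0, 0, 1]]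

/-- The Frobenius equations. -/
def d7 : M7 := !![0, 1, 1, 1, 1, 0, 2; 0, 1, 2, 0, 1, 1, 1; 0, 0, 1, 0, 0, 0, 2; 0, 2, 0, 1, 1, 0, 2; 0, 2, 0, 2, 1, 2, 2; 0, 1, 2, 0, 0, 2, 1; 0, 0, 1, 2, 0, 1, 2]

/-- An element of order 13. -/
def g13 : M7 := !![1, 2, 2, 1, 1, 1, 1; 1, 0, 0, 2, 0, 2, 1; 0, 0, 1, 2, 0, 0, 2; 0, 1, 0, 1, 0, 0, 0; 0, 0, 2, 1, 1, 1, 1; 2, 1, 0, 1, 0, 1, 2; 2, 1, 0, 2, 0, 0, 1]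

/-- The inverse of its Krylov matrix. -/
def k13 : M7 := !![2, 1, 1, 1, 2, 0, 1; 0, 2, 0, 1, 2, 0, 0; 1, 2, 0, 2, 2, 2, 2; 2, 0, 0, 2, 1, 2, 0; 2, 2, 0, 1, 1, 1, 0; 0, 2, 0, 0, 0, 0, 2; 2, 0, 0, 2, 1, 0, 2]

/-- Its powers. -/
def p13 : Fin 14 → M7 := ![
  !![1, 0, 0, 0, 0, 0, 0; 0, 1, 0, 0, 0, 0, 0; 0, 0, 1, 0, 0, 0, 0; 0, 0, 0, 1, 0, 0, 0; 0, 0, 0, 0, 1, 0, 0; 0, 0, 0, 0, 0, 1, 0; 0, 0, 0, 0, 0, 0, 1],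
  !![1, 2, 2, 1, 1, 1, 1; 1, 0, 0, 2, 0, 2, 1; 0, 0, 1, 2, 0, 0, 2; 0, 1, 0, 1, 0, 0, 0; 0, 0, 2, 1, 1, 1, 1; 2, 1, 0, 1, 0, 1, 2; 2, 1, 0, 2, 0, 0, 1],
  !![1, 2, 0, 2, 2, 1, 2; 1, 1, 2, 1, 1, 0, 0; 1, 1, 1, 2, 0, 0, 1; 1, 1, 0, 0, 0, 2, 1; 1, 0, 1, 0, 1, 2, 2; 0, 2, 1, 1, 2, 2, 1; 2, 1, 1, 2, 2, 1, 1],
  !![0, 1, 0, 2, 0, 2, 0; 2, 0, 0, 0, 2, 1, 1; 1, 2, 0, 0, 1, 0, 2; 2, 2, 2, 1, 1, 2, 1; 0, 0, 2, 1, 2, 1, 1; 2, 1, 2, 1, 2, 2, 2; 1, 2, 0, 1, 1, 1, 1],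
  !![2, 1, 0, 0, 0, 1, 2; 0, 0, 2, 1, 1, 2, 1; 1, 1, 1, 1, 2, 0, 0; 1, 2, 2, 1, 0, 0, 2; 1, 0, 0, 1, 2, 0, 0; 2, 0, 1, 2, 1, 2, 0; 1, 2, 1, 1, 2, 1, 1],
  !![0, 1, 1, 0, 2, 2, 1; 0, 1, 1, 1, 1, 0, 1; 2, 0, 1, 2, 0, 2, 0; 1, 2, 1, 2, 1, 2, 0; 1, 0, 0, 1, 0, 0, 0; 0, 2, 1, 0, 0, 2, 0; 1, 2, 1, 1, 0, 2, 1],
  !![1, 0, 2, 1, 2, 0, 1; 0, 2, 0, 2, 1, 0, 2; 0, 2, 2, 2, 2, 1, 2; 1, 0, 2, 0, 2, 2, 1; 1, 0, 2, 2, 1, 1, 1; 0, 2, 1, 2, 0, 0, 2; 0, 0, 0, 0, 1, 1, 1],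
  !![0, 1, 2, 1, 0, 0, 2; 0, 1, 2, 2, 1, 2, 2; 2, 2, 0, 2, 2, 1, 0; 1, 2, 2, 2, 0, 2, 0; 2, 0, 0, 2, 2, 0, 0; 0, 1, 1, 0, 0, 1, 0; 1, 2, 2, 1, 1, 2, 1],
  !![2, 0, 2, 2, 0, 2, 1; 0, 0, 1, 0, 1, 2, 0; 0, 1, 2, 2, 1, 0, 2; 1, 0, 1, 1, 1, 1, 2; 2, 0, 2, 0, 1, 1, 1; 0, 1, 1, 2, 0, 0, 2; 0, 0, 0, 0, 2, 2, 1],
  !![2, 0, 0, 0, 2, 1, 2; 1, 2, 0, 2, 1, 0, 1; 2, 1, 1, 1, 1, 0, 2; 1, 0, 2, 1, 2, 0, 2; 0, 0, 2, 1, 0, 1, 1; 2, 1, 1, 1, 0, 2, 2; 0, 0, 1, 0, 2, 1, 1],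
  !![2, 1, 2, 0, 1, 2, 2; 2, 2, 1, 1, 2, 0, 2; 1, 1, 1, 0, 0, 2, 2; 2, 2, 2, 0, 0, 0, 0; 1, 0, 2, 2, 0, 1, 1; 2, 0, 2, 1, 2, 0, 2; 1, 2, 2, 1, 2, 0, 1],
  !![2, 2, 2, 0, 0, 1, 2; 2, 1, 0, 0, 1, 2, 1; 1, 0, 0, 2, 1, 2, 1; 1, 1, 0, 1, 2, 0, 2; 2, 0, 1, 1, 1, 2, 2; 0, 1, 1, 1, 1, 1, 1; 2, 1, 2, 2, 0, 1, 1],
  !![1, 1, 0, 0, 2, 1, 0; 0, 1, 0, 0, 0, 1, 0; 1, 1, 1, 2, 2, 1, 1; 0, 2, 0, 1, 0, 2, 0; 1, 0, 1, 0, 0, 2, 2; 2, 0, 0, 0, 1, 1, 1; 1, 2, 0, 1, 2, 2, 1],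
  !![1, 0, 0, 0, 0, 0, 0; 0, 1, 0, 0, 0, 0, 0; 0, 0, 1, 0, 0, 0, 0; 0, 0, 0, 1, 0, 0, 0; 0, 0, 0, 0, 1, 0, 0; 0, 0, 0, 0, 0, 1, 0; 0, 0, 0, 0, 0, 0, 1]]

/-- The Frobenius equations. -/
def d13 : M7 := !![0, 1, 2, 0, 0, 2, 2; 0, 0, 1, 0, 1, 1, 1; 0, 2, 1, 1, 0, 0, 2; 0, 2, 2, 0, 1, 2, 2; 0, 0, 1, 0, 1, 1, 1; 0, 2, 0, 2, 2, 0, 0; 0, 0, 2, 1, 2, 0, 1]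

/-- An element of order 6. -/
def g6 : M7 := !![1, 0, 2, 0, 0, 0, 0; 0, 1, 0, 0, 2, 0, 1; 1, 0, 0, 0, 0, 0, 0; 0, 0, 0, 1, 0, 1, 0; 0, 2, 0, 0, 0, 0, 0; 0, 0, 0, 2, 0, 0, 0; 0, 1, 0, 0, 0, 0, 2]
end Cfsg.Agent.G2Three
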