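import Cfsg.Agent.Lib.G2Three.Data
import Mathlib.Algebra.BigOperators.Ring.Finset
import Mathlib.Data.Fintype.BigOperators
import Mathlib.Algebra.CharP.Lemmas
import Mathlib.LinearAlgebra.Matrix.CharP
import Mathlib.Algebra.CharP.Basic
import Mathlib.Algebra.Algebra.ZMod
import Mathlib.FieldTheory.Finite.Basic

/-!
# The invariant form, and centralisers of the elements of order 7 and 13
-/

set_option autoImplicit false

namespace Cfsg.Agent.G2Three

open Matrix

/-- The trilinear form evaluated at three columns. -/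
def val (A : M7) (a b c : Fin 7) : ZMod 3 :=
  (terms.map fun t => t.2.2.2 * A t.1 a * A t.2.1 b * A t.2.2.1 c).sum

/-- `A` preserves the form. -/
def Pres (A : M7) : Prop := ∀ a b c, val A a b c = val 1 a b c

instance : DecidablePred Pres := fun A => by unfold Pres; infer_instance

theorem val_mul (A B : M7) (a b c : Fin 7) :
    val (A * B) a b c = ∑ l, ∑ m, ∑ n, val A l m n * B l a * B m b * B n c := by
  unfold val
  induction terms with
  | nil => simp
  | cons t L ih =>
    simp only [List.map_cons, List.sum_cons, ih, add_mul, Finset.sum_add_distrib]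
    congr 1
    simp only [Matrix.mul_apply, Finset.sum_mul, Finset.mul_sum]
    refine Eq.trans ?_ (Finset.sum_congr rfl fun l _ => Finset.sum_comm)
    rw [Finset.sum_comm]
    conv_lhs => arg 2; ext; rw [Finset.sum_comm]
    conv_lhs => rw [Finset.sum_comm]
    conv_lhs => arg 2; ext; rw [Finset.sum_comm]
    refine Finset.sum_congr rfl fun l _ => Finset.sum_congr rfl fun m _ =>
      Finset.sum_congr rfl fun n _ => ?_
    ring

theorem Pres.val_mul_left {A : M7} (hA : Pres A) (B : M7) (a b c : Fin 7) :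
    val (A * B) a b c = val B a b c := by
  rw [val_mul, show val B a b c = val (1 * B) a b c by rw [one_mul], val_mul]
  exact Finset.sum_congr rfl fun l _ => Finset.sum_congr rfl fun m _ => Finset.sum_congr rfl fun n _ => by
    rw [hA l m n]

theorem Pres.mul {A B : M7} (hA : Pres A) (hB : Pres B) : Pres (A * B) := fun a b c =>
  (hA.val_mul_left B a b c).trans (hB a b c)

theorem Pres.of_mul_eq_one {A B : M7} (hA : Pres A) (h : A * B = 1) : Pres B := fun a b c => by
  rw [← hA.val_mul_left B a b c, h]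

theorem pres_one : Pres 1 := fun _ _ _ => rfl

/-- Linear combinations of the first seven powers. -/
def comb {d : ℕ} (p : Fin (d + 1) → M7) (hd : 6 ≤ d) (c : Fin 7 → ZMod 3) : M7 :=
  ∑ i : Fin 7, c i • p ⟨i, by omega⟩

/-- The Krylov matrix at the column `col`. -/
def krylov (g : M7) (col : Fin 7) : M7 := Matrix.of fun k i => (g ^ (i : ℕ)) k col

/-- A matrix commuting with a cyclic matrix is a polynomial in it. -/
theorem eq_sum_pow {g x : M7} {col : Fin 7} (hc : Commute x g) {k : M7}
    (hk : krylov g col * k = 1) :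
    x = ∑ i : Fin 7, (k * x) i col • g ^ (i : ℕ) := by
  set c : Fin 7 → ZMod 3 := fun i => (k * x) i col
  set y : M7 := ∑ i : Fin 7, c i • g ^ (i : ℕ)
  have hy : Commute y g := Commute.sum_left _ _ _ fun i _ =>
    ((Commute.refl g).pow_left _).smul_left (c i)
  have hcol : ∀ r, (x - y) r col = 0 := by
    intro r
    have e : y r col = (krylov g col * (k * x)) r col := by
      simp only [y, c, Matrix.sum_apply, Matrix.smul_apply, smul_eq_mul, Matrix.mul_apply, krylov,
        Matrix.of_apply]
      exact Finset.sum_congr rfl fun i _ => mul_comm _ _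
    rw [Matrix.sub_apply, e, ← mul_assoc, hk, one_mul, sub_self]
  have hzero : (x - y) * krylov g col = 0 := by
    ext r i
    have h1 : ((x - y) * krylov g col) r i = ((x - y) * g ^ (i : ℕ)) r col := by
      simp [Matrix.mul_apply, krylov]
    rw [h1, ((hc.sub_left hy).pow_right _).eq, Matrix.mul_apply, Matrix.zero_apply]
    exact Finset.sum_eq_zero fun j _ => by rw [hcol, mul_zero]
  have h := congrArg (· * k) hzero
  simp only [Matrix.mul_assoc, hk, mul_one, zero_mul, sub_eq_zero] at h
  exact h

/-- Frobenius on polynomials in one matrix. -/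
theorem sum_pow_three (g : M7) (c : Fin 7 → ZMod 3) (n : ℕ) (s : Finset (Fin 7)) :
    (∑ i ∈ s, c i • g ^ (i : ℕ)) ^ 3 ^ n = ∑ i ∈ s, c i • g ^ (3 ^ n * (i : ℕ)) := by
  haveI : Fact (Nat.Prime 3) := ⟨Nat.prime_three⟩
  induction s using Finset.induction with
  | empty => simp [zero_pow (pow_ne_zero n (show 3 ≠ 0 by norm_num))]
  | insert i s hi ih =>
    rw [Finset.sum_insert hi, Finset.sum_insert hi,
      add_pow_char_pow_of_commute (R := M7) (p := 3) (n := n) (Commute.sum_right _ _ _ fun j _ =>
        (((Commute.refl g).pow_pow (i : ℕ) _).smul_left (c i)).smul_right (c j)), ih,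
      smul_pow, ← pow_mul, mul_comm (i : ℕ)]
    congr 2
    exact ZMod.pow_card_pow (c i)

theorem frob_fix {g x : M7} {d n : ℕ} (hg : g ^ d = 1) (hn : 3 ^ n % d = 1 % d) {col : Fin 7}
    (hc : Commute x g) {k : M7} (hk : krylov g col * k = 1) : x ^ 3 ^ n = x := by
  rw [eq_sum_pow hc hk, sum_pow_three]
  refine Finset.sum_congr rfl fun i _ => ?_
  congr 1
  rw [pow_eq_pow_mod _ hg, pow_eq_pow_mod (i : ℕ) hg, Nat.mul_mod, hn, ← Nat.mul_mod, one_mul]

/-- Powers from a table. -/
theorem pow_table {g : M7} {d : ℕ} (p : Fin (d + 1) → M7) (h0 : p 0 = 1)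
    (hs : ∀ i : Fin d, p i.castSucc * g = p i.succ) : ∀ i : Fin (d + 1), g ^ (i : ℕ) = p i := by
  rintro ⟨i, hi⟩
  induction i with
  | zero => simpa using h0.symm
  | succ i ih =>
    show g ^ (i + 1) = _
    rw [pow_succ, ih (by omega)]
    exact hs ⟨i, by omega⟩

/-- An element of order prime to `3 ^ n - 1` commuting with `g` is trivial. -/
theorem eq_one_of_pow {x : M7} {n r : ℕ} (hfix : x ^ 3 ^ n = x) (hr : x ^ r = 1) (hr1 : 1 ≤ r)
    (hco : Nat.Coprime r (3 ^ n - 1)) : x = 1 := by
  have hinv : x ^ (r - 1) * x = 1 := by rw [← pow_succ, Nat.sub_add_cancel hr1, hr]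
  have h1 : x ^ (3 ^ n - 1) = 1 := by
    calc x ^ (3 ^ n - 1) = x ^ (3 ^ n - 1) * (x ^ (r - 1) * x) := by rw [hinv, mul_one]
      _ = x ^ (r - 1) * x ^ (3 ^ n) := by
        rw [← pow_succ, ← pow_add, ← pow_add]
        congr 1
        have : 1 ≤ 3 ^ n := Nat.one_le_pow _ _ (by norm_num)
        omega
      _ = 1 := by rw [hfix, hinv]
  have := pow_gcd_eq_one.2 ⟨hr, h1⟩
  rwa [hco, pow_one] at this

end Cfsg.Agent.G2Three
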