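import Cfsg.Agent.Lib.G2Three.Rep

/-!
# The prime graph of `G₂(3)`
-/

set_option autoImplicit false

namespace Cfsg.Agent.G2Three

open Cfsg.Lie Matrix

theorem pow7 : ∀ i : Fin 8, g7 ^ (i : ℕ) = p7 i := pow_table p7 table7.1 table7.2.1

theorem pow13 : ∀ i : Fin 14, g13 ^ (i : ℕ) = p13 i := pow_table p13 table13.1 table13.2.1

theorem g7_pow : g7 ^ 7 = 1 := (pow7 7).trans table7.2.2.1

theorem g13_pow : g13 ^ 13 = 1 := (pow13 13).trans table13.2.2.1

theorem krylov_g7 : krylov g7 0 * k7 = 1 := by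
  rw [← krylov7]
  congr 1
  ext k i
  show (g7 ^ (i : ℕ)) k 0 = p7 ⟨i, _⟩ k 0
  rw [← pow7 ⟨i, by omega⟩]

theorem krylov_g13 : krylov g13 2 * k13 = 1 := by
  rw [← krylov13]
  congr 1
  ext k i
  show (g13 ^ (i : ℕ)) k 2 = p13 ⟨i, _⟩ k 2
  rw [← pow13 ⟨i, by omega⟩]

/-- An involution commuting with `g` satisfies the Frobenius equations. -/
theorem frob_eqs {g x dd' : M7} {d : ℕ} {col : Fin 7} {k : M7} (p : Fin (d + 1) → M7)
    (hp : ∀ i : Fin (d + 1), g ^ (i : ℕ) = p i) (hg : g ^ d = 1) (hk : krylov g col * k = 1)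
    (hd : dd' = Matrix.of fun r (i : Fin 7) =>
      p (Fin.ofNat (d + 1) (3 * (i : ℕ) % d)) r col - p (Fin.ofNat (d + 1) (i : ℕ)) r col)
    (hd6 : 6 ≤ d) (hc : Commute x g) (hx : x * x = 1) :
    let c : Fin 7 → ZMod 3 := fun i => (k * x) i col
    (∀ r, dd' r 0 * c 0 + dd' r 1 * c 1 + dd' r 2 * c 2 + dd' r 3 * c 3 + dd' r 4 * c 4 + dd' r 5 * c 5 +
      dd' r 6 * c 6 = 0) ∧ x = comb p hd6 c := by
  intro c
  have hx3 : x ^ 3 ^ 1 = x := by rw [pow_one, pow_succ, pow_two, hx, one_mul]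
  have hs := eq_sum_pow hc hk
  have h3 : x ^ 3 ^ 1 = ∑ i : Fin 7, c i • g ^ (3 ^ 1 * (i : ℕ)) := by
    conv_lhs => rw [hs]
    exact sum_pow_three g c 1 Finset.univ
  refine ⟨fun r => ?_, hs.trans (Finset.sum_congr rfl fun i _ => ?_)⟩
  · have e : (∑ i : Fin 7, c i • g ^ (3 ^ 1 * (i : ℕ))) r col = (∑ i : Fin 7, c i • g ^ (i : ℕ)) r col := by
      rw [← h3, hx3, ← hs]
    simp only [Matrix.sum_apply, Matrix.smul_apply, smul_eq_mul] at e
    rw [← sub_eq_zero, ← Finset.sum_sub_distrib, Fin.sum_univ_seven] at e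
    have key : ∀ i : Fin 7, c i * (g ^ (3 ^ 1 * (i : ℕ))) r col - c i * (g ^ (i : ℕ)) r col = dd' r i * c i := by
      intro i
      have h1 : g ^ (3 ^ 1 * (i : ℕ)) = p (Fin.ofNat (d + 1) (3 * (i : ℕ) % d)) := by
        rw [← hp, Fin.val_ofNat, Nat.mod_eq_of_lt (Nat.lt_succ_of_lt (Nat.mod_lt _ (by omega))), pow_one]
        exact pow_eq_pow_mod _ hg
      have h2 : g ^ (i : ℕ) = p (Fin.ofNat (d + 1) (i : ℕ)) := by
        rw [← hp, Fin.val_ofNat, Nat.mod_eq_of_lt (by omega)]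
      rw [h1, h2, hd, Matrix.of_apply]
      ring
    rwa [key, key, key, key, key, key, key] at e
  · show _ = c i • p ⟨i, _⟩
    rw [← hp ⟨i, by omega⟩]

theorem vec_eta (c : Fin 7 → ZMod 3) : ![c 0, c 1, c 2, c 3, c 4, c 5, c 6] = c := by
  funext i; fin_cases i <;> rfl

/-- No involution preserving the form commutes with `g₇`. -/
theorem no_invol7 {x : M7} (hc : Commute x g7) (hx : x * x = 1) (hp : Pres x) : x = 1 := by
  have h := frob_eqs p7 pow7 g7_pow krylov_g7 frob7 (by norm_num) hc hx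
  obtain ⟨heq, hxc⟩ := h
  set c : Fin 7 → ZMod 3 := fun i => (k7 * x) i 0
  have h := invol7 (c 0) (c 1) (c 2) (c 3) (c 4) (c 5) (c 6) heq
  rw [vec_eta c, ← hxc] at h
  exact (h hx).resolve_right (not_not_intro hp)

/-- No involution preserving the form commutes with `g₁₃`. -/
theorem no_invol13 {x : M7} (hc : Commute x g13) (hx : x * x = 1) (hp : Pres x) : x = 1 := by
  have h := frob_eqs p13 pow13 g13_pow krylov_g13 frob13 (by norm_num) hc hx
  obtain ⟨heq, hxc⟩ := h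
  set c : Fin 7 → ZMod 3 := fun i => (k13 * x) i 2
  have h := invol13 (c 0) (c 1) (c 2) (c 3) (c 4) (c 5) (c 6) heq
  rw [vec_eta c, ← hxc] at h
  exact (h hx).resolve_right (not_not_intro hp)

theorem centraliser7 {x : M7} (hc : Commute x g7) (hp : Pres x) {s : ℕ}
    (hs : s = 2 ∨ s = 3) (hx : x ^ s = 1) : x = 1 := by
  rcases hs with rfl | rfl
  · exact no_invol7 hc (by rwa [← pow_two]) hp
  · exact eq_one_of_pow (frob_fix (n := 6) g7_pow (by norm_num) hc krylov_g7) hx (by norm_num) (by norm_num)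

theorem centraliser13 {x : M7} (hc : Commute x g13) (hp : Pres x) {s : ℕ}
    (hs : s = 2 ∨ s = 3 ∨ s = 7) (hx : x ^ s = 1) : x = 1 := by
  rcases hs with rfl | rfl | rfl
  · exact no_invol13 hc (by rwa [← pow_two]) hp
  · exact eq_one_of_pow (frob_fix (n := 3) g13_pow (by norm_num) hc krylov_g13) hx (by norm_num) (by norm_num)
  · exact eq_one_of_pow (frob_fix (n := 3) g13_pow (by norm_num) hc krylov_g13) hx (by norm_num) (by norm_num)

variable {K : Type*} [Field K] [Fintype K]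

/-- An element whose image has prime order `p`, a simple divisor of the group order, has centraliser
containing a conjugate of every element commuting with an element of order `p`. -/
theorem conj_into (hK : Fintype.card K = 3) {p s : ℕ} [Fact p.Prime] (hp2 : ¬ p ^ 2 ∣ 2 ^ 6 * 3 ^ 6 * 7 * 13)
    {g : ↥(chevG2.group K)} (hg : orderOf g = p) {y z : ↥(chevG2.group K)} (hy : orderOf y = p)
    (hyz : Commute y z) (hz : z ^ s = 1) (hz1 : z ≠ 1) :
    ∃ z' : ↥(chevG2.group K), Commute z' g ∧ z' ^ s = 1 ∧ z' ≠ 1 := by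
  classical
  have syl : ∀ u : ↥(chevG2.group K), orderOf u = p →
      ∃ P : Sylow p ↥(chevG2.group K), (P : Subgroup ↥(chevG2.group K)) = Subgroup.zpowers u := by
    intro u hu
    have hN : (Nat.card ↥(chevG2.group K)).factorization p = 1 := by
      have h0 : Nat.card ↥(chevG2.group K) ≠ 0 := Nat.card_pos.ne'
      have h1 : 1 ≤ (Nat.card ↥(chevG2.group K)).factorization p :=
        ((Fact.out : p.Prime).dvd_iff_one_le_factorization h0).1 (hu ▸ orderOf_dvd_natCard u)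
      have h2 : ¬ 2 ≤ (Nat.card ↥(chevG2.group K)).factorization p := fun h =>
        hp2 (card_group hK ▸ ((Fact.out : p.Prime).pow_dvd_iff_le_factorization h0).2 h)
      omega
    exact ⟨Sylow.ofCard (Subgroup.zpowers u) (by rw [Nat.card_zpowers, hu, hN, pow_one]), rfl⟩
  obtain ⟨P, hP⟩ := syl y hy
  obtain ⟨Q, hQ⟩ := syl g hg
  obtain ⟨c, hc⟩ := MulAction.exists_smul_eq ↥(chevG2.group K) P Q
  have hgm : g ∈ (Q : Subgroup ↥(chevG2.group K)) := hQ ▸ Subgroup.mem_zpowers g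
  rw [← hc, Sylow.coe_subgroup_smul, Subgroup.mem_smul_pointwise_iff_exists] at hgm
  obtain ⟨u, hu, hug⟩ := hgm
  rw [hP] at hu
  obtain ⟨i, rfl⟩ := hu
  refine ⟨c * z * c⁻¹, ?_, ?_, ?_⟩
  · rw [← hug]
    exact ((hyz.zpow_left i).symm).map (MulAut.conj c)
  · rw [conj_pow, hz, mul_one, mul_inv_cancel]
  · intro h
    exact hz1 (by
      calc z = c⁻¹ * (c * z * c⁻¹) * c := by group
        _ = 1 := by rw [h]; group)

theorem exists_order7 (hK : Fintype.card K = 3) : ∃ g : ↥(chevG2.group K), rep hK g = g7 ∧ orderOf g = 7 := by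
  haveI : Fact (Nat.Prime 7) := ⟨by norm_num⟩
  refine ⟨xr 2 * xr 4 * xr 9 * xr 5, by simp only [map_mul, rep_xr]; exact word7, ?_⟩
  refine orderOf_eq_prime (rep_injective hK ?_) fun h => table7.2.2.2 ?_
  · rw [map_pow, map_one]; simp only [map_mul, rep_xr, word7]; exact g7_pow
  · have := congrArg (rep hK) h
    simpa only [map_mul, rep_xr, word7, map_one] using this

theorem exists_order13 (hK : Fintype.card K = 3) : ∃ g : ↥(chevG2.group K), rep hK g = g13 ∧ orderOf g = 13 := by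
  haveI : Fact (Nat.Prime 13) := ⟨by norm_num⟩
  refine ⟨xr 0 * xr 9 * xr 4, by simp only [map_mul, rep_xr]; exact word13, ?_⟩
  refine orderOf_eq_prime (rep_injective hK ?_) fun h => table13.2.2.2 ?_
  · rw [map_pow, map_one]; simp only [map_mul, rep_xr, word13]; exact g13_pow
  · have := congrArg (rep hK) h
    simpa only [map_mul, rep_xr, word13, map_one] using this

theorem exists_order6 (hK : Fintype.card K = 3) : ∃ g : ↥(chevG2.group K), orderOf g = 6 := by
  have e : rep hK (xr 8 * xr 3 * xr 3) = g6 := by simp only [map_mul, rep_xr]; exact word6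
  refine ⟨xr 8 * xr 3 * xr 3, ?_⟩
  rw [← orderOf_injective (rep hK) (rep_injective hK), e]
  have h6 : g6 ^ 6 = 1 := by simpa [pow_succ] using order6.1
  have hdiv := orderOf_dvd_of_pow_eq_one h6
  have h2 : ¬ orderOf g6 ∣ 2 := fun h => order6.2.1 (by rw [← pow_two]; exact orderOf_dvd_iff_pow_eq_one.1 h)
  have h3 : ¬ orderOf g6 ∣ 3 := fun h => order6.2.2 (by
    simpa [pow_succ] using orderOf_dvd_iff_pow_eq_one.1 h)
  have key : ∀ n ∈ Nat.divisors 6, ¬ n ∣ 2 → ¬ n ∣ 3 → n = 6 := by decide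
  exact key _ (Nat.mem_divisors.2 ⟨hdiv, by norm_num⟩) h2 h3

theorem edge_iff (hK : Fintype.card K = 3) {r s : ℕ} (hr : r.Prime) (hs : s.Prime) (hne : r ≠ s) :
    (∃ x : ↥(chevG2.group K), orderOf x = r * s) ↔ r * s = 6 := by
  classical
  refine ⟨fun ⟨x, hx⟩ => ?_, fun h => h ▸ exists_order6 hK⟩
  have hmem : ∀ p : ℕ, p.Prime → p ∣ r * s → p = 2 ∨ p = 3 ∨ p = 7 ∨ p = 13 := by
    intro p hp hpd
    have h : p ∣ 2 ^ 6 * 3 ^ 6 * 7 * 13 := card_group hK ▸ hpd.trans (hx ▸ orderOf_dvd_natCard x)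
    simp only [hp.dvd_mul] at h
    have hq : ∀ q : ℕ, q.Prime → p ∣ q → p = q := fun q hq h => (Nat.prime_dvd_prime_iff_eq hp hq).1 h
    rcases h with ((h | h) | h) | h
    · exact Or.inl (hq _ Nat.prime_two (hp.dvd_of_dvd_pow h))
    · exact Or.inr (Or.inl (hq _ Nat.prime_three (hp.dvd_of_dvd_pow h)))
    · exact Or.inr (Or.inr (Or.inl (hq _ (by norm_num) h)))
    · exact Or.inr (Or.inr (Or.inr (hq _ (by norm_num) h)))
  have split : ∀ p t : ℕ, p.Prime → t.Prime → orderOf x = p * t →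
      orderOf (x ^ t) = p ∧ (x ^ p) ^ t = 1 ∧ x ^ p ≠ 1 ∧ Commute (x ^ t) (x ^ p) := by
    intro p t hp ht hxp
    refine ⟨?_, by rw [← pow_mul, ← hxp, pow_orderOf_eq_one], fun h => ?_, (Commute.refl x).pow_pow _ _⟩
    · rw [orderOf_pow' _ ht.ne_zero, hxp, Nat.gcd_mul_left_left, Nat.mul_div_cancel _ ht.pos]
    · have := Nat.le_of_dvd hp.pos (orderOf_dvd_of_pow_eq_one h)
      rw [hxp] at this
      nlinarith [ht.two_le, hp.pos]
  have bad7 : ∀ t, t.Prime → (t = 2 ∨ t = 3) → orderOf x ≠ 7 * t := by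
    intro t ht htv hxp
    haveI : Fact (Nat.Prime 7) := ⟨by norm_num⟩
    obtain ⟨h1, h2, h3, h4⟩ := split 7 t (by norm_num) ht hxp
    obtain ⟨g, hg, hgo⟩ := exists_order7 hK
    obtain ⟨z, hz1, hz2, hz3⟩ := conj_into hK (by norm_num) hgo h1 h4 h2 h3
    refine hz3 (rep_injective hK ?_)
    rw [map_one]
    exact centraliser7 (hg ▸ hz1.map (rep hK)) (rep_pres hK z) htv (by rw [← map_pow, hz2, map_one])
  have bad13 : ∀ t, t.Prime → (t = 2 ∨ t = 3 ∨ t = 7) → orderOf x ≠ 13 * t := by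
    intro t ht htv hxp
    haveI : Fact (Nat.Prime 13) := ⟨by norm_num⟩
    obtain ⟨h1, h2, h3, h4⟩ := split 13 t (by norm_num) ht hxp
    obtain ⟨g, hg, hgo⟩ := exists_order13 hK
    obtain ⟨z, hz1, hz2, hz3⟩ := conj_into hK (by norm_num) hgo h1 h4 h2 h3
    refine hz3 (rep_injective hK ?_)
    rw [map_one]
    exact centraliser13 (hg ▸ hz1.map (rep hK)) (rep_pres hK z) htv (by rw [← map_pow, hz2, map_one])
  have hr' := hmem r hr (dvd_mul_right r s)
  have hs' := hmem s hs (dvd_mul_left s r)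
  rcases hr' with rfl | rfl | rfl | rfl <;> rcases hs' with rfl | rfl | rfl | rfl <;>
    first
    | exact absurd rfl hne
    | rfl
    | exact absurd hx (bad13 _ hs (by norm_num))
    | exact absurd (hx.trans (Nat.mul_comm _ _)) (bad13 _ hr (by norm_num))
    | exact absurd hx (bad7 _ hs (by norm_num))
    | exact absurd (hx.trans (Nat.mul_comm _ _)) (bad7 _ hr (by norm_num))

end Cfsg.Agent.G2Three
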