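import Cfsg.Agent.Lib.Ree.Seven
import Cfsg.Agent.Lib.G2Three.Checks
import Cfsg.Agent.S1055
import Cfsg.Agent.S1059

/-!
# The seven-dimensional representation of `G₂(3)` over the prime field
-/

set_option autoImplicit false

namespace Cfsg.Agent.G2Three

open Cfsg.Lie Cfsg.Agent.Chev Cfsg.Agent.Ree

/-- The codes of the seven basis vectors. -/
def cd : Fin 7 → ℕ := ![2, 3, 4, 7, 8, 9, 12]

theorem exists_idx : ∀ i : Fin 7, ∃ x : chevG2.Idx, code G2.pk x = cd i := by decide +kernel

theorem cd_inW : ∀ i : Fin 7, inW (cd i) = true := by decide +kernel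

theorem cd_inj : Function.Injective cd := by decide +kernel

theorem code_inj : ∀ x y : chevG2.Idx, code G2.pk x = code G2.pk y → x = y := by decide +kernel

theorem inW_cases : ∀ c < 14, inW c = true → ∃ i : Fin 7, cd i = c := by decide +kernel

theorem code_bij : Function.Bijective (fun i : Fin 7 => (⟨(exists_idx i).choose, by
    rw [(exists_idx i).choose_spec]; exact cd_inW i⟩ : Idx7)) := by
  refine ⟨fun i j h => cd_inj ?_, fun x => ?_⟩
  · rw [← (exists_idx i).choose_spec, ← (exists_idx j).choose_spec]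
    exact congrArg (fun z : Idx7 => code G2.pk z.1) h
  · obtain ⟨i, hi⟩ := inW_cases _ (code_lt14 x.1) x.2
    exact ⟨i, Subtype.ext (code_inj _ _ ((exists_idx i).choose_spec.trans hi))⟩

/-- The coordinates of the invariant subspace. -/
noncomputable def e7 : Fin 7 ≃ Idx7 := Equiv.ofBijective _ code_bij

theorem code_e7 (i : Fin 7) : code G2.pk (e7 i).1 = cd i := (exists_idx i).choose_spec

theorem root_entries' : ∀ r : Fin 12, (Matrix.of fun i j : Fin 7 =>
    ((∑ k ∈ Finset.range 4, cf (G2.pk.colL k r (cd j)) (cd i) : ℤ) : ZMod 3)) = root r := by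
  decide +kernel

theorem root_entries (r : Fin 12) (i j : Fin 7) :
    ((∑ k ∈ Finset.range 4, cf (G2.pk.colL k r (cd j)) (cd i) : ℤ) : ZMod 3) = root r i j :=
  congrFun (congrFun (root_entries' r) i) j

variable (K : Type*) [Field K] [Fintype K]

theorem charP_of_card (hK : Fintype.card K = 3) : CharP K 3 := by
  haveI : Fact (Nat.Prime 3) := ⟨Nat.prime_three⟩
  exact charP_of_card_eq_prime (by simpa using hK)

/-- The field of order three. -/
noncomputable def fieldEquiv (hK : Fintype.card K = 3) : ZMod 3 ≃+* K :=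
  haveI := charP_of_card K hK
  haveI : Fact (Nat.Prime 3) := ⟨Nat.prime_three⟩
  RingEquiv.ofBijective (ZMod.castHom (dvd_refl 3) K)
    ((Fintype.bijective_iff_injective_and_card _).2
      ⟨(ZMod.castHom (dvd_refl 3) K).injective, by rw [ZMod.card, hK]⟩)

variable {K}

/-- The representation. -/
noncomputable def rep (hK : Fintype.card K = 3) : ↥(chevG2.group K) →* M7 :=
  haveI := charP_of_card K hK
  { toFun := fun g => Matrix.of fun i j =>
      (fieldEquiv K hK).symm (((g : GL chevG2.Idx K) : Matrix chevG2.Idx chevG2.Idx K) (e7 i).1 (e7 j).1)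
    map_one' := by
      ext i j
      rcases eq_or_ne i j with rfl | h
      · simp
      · have h' : (e7 i).1 ≠ (e7 j).1 := fun e => h (e7.injective (Subtype.ext e))
        simp [Matrix.one_apply_ne h, Matrix.one_apply_ne h']
    map_mul' := fun g h => by
      ext i j
      rw [Matrix.mul_apply]
      simp only [Matrix.of_apply]
      rw [show ((g * h : ↥(chevG2.group K)) : GL chevG2.Idx K) = (g : GL chevG2.Idx K) * h from rfl,
        block_mul h.2, map_sum, ← e7.sum_comp]
      exact Finset.sum_congr rfl fun l _ => map_mul _ _ _ }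

theorem x_mem (r : Fin 12) (t : K) : (G2.ok.xG (F := K) r.val t) ∈ chevG2.group K :=
  Subgroup.subset_closure ⟨⟨r.val, r.isLt⟩, t, by
    rw [G2.ok.coe_xG, ChevalleyDatum.x, dif_pos (show r.val < chevG2.nroots from r.isLt)]⟩

/-- A root element with parameter one. -/
noncomputable def xr (r : Fin 12) : ↥(chevG2.group K) := ⟨_, x_mem r 1⟩

theorem rep_xr (hK : Fintype.card K = 3) (r : Fin 12) : rep hK (xr r) = root r := by
  haveI := charP_of_card K hK
  ext i j
  show (fieldEquiv K hK).symm ((G2.ok.xG (F := K) r.val 1 : Matrix chevG2.Idx chevG2.Idx K) (e7 i).1 (e7 j).1) = _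
  have hr : r.val < G2.pk.nroots := r.isLt
  rw [G2.ok.coe_xG' hr, RingEquiv.symm_apply_eq, ← root_entries, map_intCast]
  simp only [X, Matrix.sum_apply, Matrix.smul_apply, one_pow, one_smul, cM_apply, Ek, opM,
    Matrix.of_apply, code_e7, Int.cast_sum]

theorem group_induction (hK : Fintype.card K = 3) {motive : ↥(chevG2.group K) → Prop}
    (h1 : motive 1) (hroot : ∀ r, motive (xr r)) (hmul : ∀ a b, motive a → motive b → motive (a * b))
    (hinv : ∀ a, motive a → motive a⁻¹) (g : ↥(chevG2.group K)) : motive g := by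
  haveI := charP_of_card K hK
  obtain ⟨g, hg⟩ := g
  induction hg using Subgroup.closure_induction with
  | one => exact h1
  | mul a b ha hb iha ihb => exact hmul _ _ iha ihb
  | inv a ha iha => exact hinv _ iha
  | mem a hmem =>
    obtain ⟨r, t, ht⟩ := hmem
    have hr : r.val < G2.pk.nroots := r.isLt
    have e : a = G2.ok.xG r.val t := Units.ext (by
      rw [ht, G2.ok.coe_xG, ChevalleyDatum.x, dif_pos r.isLt])
    obtain ⟨t3, rfl⟩ := (fieldEquiv K hK).surjective t
    have hadd : ∀ s u : K, G2.ok.xG r.val (s + u) = G2.ok.xG r.val s * G2.ok.xG r.val u := fun s u =>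
      Units.ext (by rw [Units.val_mul, G2.ok.coe_xG' hr, G2.ok.coe_xG' hr, G2.ok.coe_xG' hr, G2.ok.X_add hr])
    have hzero : G2.ok.xG r.val (0 : K) = 1 := Units.ext (by
      rw [G2.ok.coe_xG' hr, G2.ok.X_zero, Units.val_one])
    subst e
    have hcases : t3 = 0 ∨ t3 = 1 ∨ t3 = 1 + 1 := by clear ht; revert t3; decide
    rcases hcases with rfl | rfl | rfl
    · convert h1
      apply Subtype.ext
      show G2.ok.xG r.val (fieldEquiv K hK 0) = 1
      rw [map_zero, hzero]
    · convert hroot ⟨r.val, r.isLt⟩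
      apply Subtype.ext
      show G2.ok.xG r.val (fieldEquiv K hK 1) = G2.ok.xG r.val 1
      rw [map_one]
    · convert hmul _ _ (hroot ⟨r.val, r.isLt⟩) (hroot ⟨r.val, r.isLt⟩)
      apply Subtype.ext
      show G2.ok.xG r.val (fieldEquiv K hK (1 + 1)) = G2.ok.xG r.val 1 * G2.ok.xG r.val 1
      rw [map_add, map_one, hadd]

theorem rep_pres (hK : Fintype.card K = 3) (g : ↥(chevG2.group K)) : Pres (rep hK g) := by
  induction g using group_induction hK with
  | h1 => rw [map_one]; exact pres_one
  | hroot r => rw [rep_xr]; exact pres_root r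
  | hmul a b ha hb => rw [map_mul]; exact ha.mul hb
  | hinv a ha => exact ha.of_mul_eq_one (by rw [← map_mul, mul_inv_cancel, map_one])

theorem exists_nonzero_one (hK : Fintype.card K = 3) : ∃ a : K, a ≠ 0 ∧ a ≠ 1 := by
  classical
  obtain ⟨a, ha⟩ := Finset.exists_mem_notMem_of_card_lt_card (s := ({0, 1} : Finset K)) (t := Finset.univ)
    (lt_of_le_of_lt Finset.card_le_two (by rw [Finset.card_univ, hK]; norm_num))
  simp only [Finset.mem_insert, Finset.mem_singleton, not_or] at ha
  exact ⟨a, ha.2.1, ha.2.2⟩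

theorem rep_injective (hK : Fintype.card K = 3) : Function.Injective (rep hK) := by
  haveI := (Cfsg.Agent.S1055.result (F := K) (exists_nonzero_one hK)).1
  rcases (MonoidHom.normal_ker (rep hK)).eq_bot_or_eq_top with h | h
  · exact (injective_iff_map_eq_one _).2 fun a ha => by
      have : a ∈ (rep hK).ker := ha
      rwa [h, Subgroup.mem_bot] at this
  · exfalso
    have h0 : rep hK (xr 0) = 1 := MonoidHom.mem_ker.1 (h ▸ Subgroup.mem_top _)
    rw [rep_xr] at h0
    revert h0
    decide +kernel

theorem card_group (hK : Fintype.card K = 3) :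
    Nat.card ↥(chevG2.group K) = 2 ^ 6 * 3 ^ 6 * 7 * 13 := by
  rw [Cfsg.Agent.S1059.result hK]
  norm_num

end Cfsg.Agent.G2Three
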