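import Cfsg.Agent.Lib.SL2.Dickson

/-!
# The prime graph of `PSL(2, 13)`
-/

set_option autoImplicit false

namespace Cfsg.Agent.G2Three

open Matrix Cfsg.Agent.SL2

variable {E : Type*} [Field E] [Fintype E]

local notation "G" => Matrix.SpecialLinearGroup (Fin 2) E
local notation "PS" => Matrix.ProjectiveSpecialLinearGroup (Fin 2) E

theorem uu_pow (b : E) : ∀ n : ℕ, (uu b : G) ^ n = uu ((n : E) * b) := by
  intro n
  induction n with
  | zero => simp [uu_zero]
  | succ n ih => rw [pow_succ, ih, uu_mul]; congr 1; push_cast; ring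

theorem orders_thirteen (hE : Fintype.card E = 13) (x : PS) :
    orderOf x ∣ 13 ∨ orderOf x ∣ 7 ∨ orderOf x ∣ 6 := by
  obtain ⟨s, rfl⟩ := π_surjective x
  by_cases hs : Scal s
  · left; rw [π_eq_one.2 hs, orderOf_one]; exact one_dvd _
  by_cases ht : tr s ^ 2 = 4
  · left
    obtain ⟨ε, b, P, hε, -, -, hP⟩ := exists_unip_conj hs ht
    have h13 : ((13 : ℕ) : E) = 0 := by rw [← hE]; exact Nat.cast_card_eq_zero E
    have e : P⁻¹ * s * P = uu (ε * b) ∨ P⁻¹ * s * P = -uu (ε * b) := by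
      rcases sq_eq_one_iff.1 hε with rfl | rfl
      · left; apply Subtype.ext; rw [hP]; apply mext <;> simp [uu]
      · right; apply Subtype.ext; rw [hP, Matrix.SpecialLinearGroup.coe_neg]; apply mext <;> simp [uu]
    have h : π (P⁻¹ * s * P) ^ 13 = (1 : PS) := by
      rcases e with e | e <;> rw [e] <;> (try rw [π_neg]) <;>
        rw [← map_pow, uu_pow, h13, zero_mul, uu_zero, map_one]
    apply orderOf_dvd_of_pow_eq_one
    rw [map_mul, map_mul, map_inv] at h
    have h' := congrArg (fun z : PS => π P * z * (π P)⁻¹) h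
    simp only [mul_one, mul_inv_cancel] at h'
    rw [← conj_pow] at h'
    simpa [mul_assoc] using h'
  · right
    have hd : orderOf (π s) ∣ Nat.card (torus s) :=
      Subgroup.orderOf_dvd_natCard _ (pi_mem_torus.2 (self_mem_cent _))
    rcases card_torus_cases ht with ⟨-, hc⟩ | ⟨-, hc⟩ <;> rw [hc, hE] at hd
    · exact Or.inl hd
    · exact Or.inr hd

theorem card_thirteen (hE : Fintype.card E = 13) : Nat.card PS = 1092 := by
  have h := card_psl (F := E)
  rw [hE] at h
  norm_num at h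
  omega

theorem exists_order_six (hE : Fintype.card E = 13) : ∃ y : PS, orderOf y = 6 := by
  classical
  obtain ⟨a, ha⟩ := IsCyclic.exists_ofOrder_eq_natCard (α := Eˣ)
  rw [Nat.card_units, Nat.card_eq_fintype_card, hE] at ha
  refine ⟨π (dd a), ?_⟩
  have hiff : ∀ k : ℕ, π (dd a) ^ k = (1 : PS) ↔ 12 ∣ 2 * k := by
    intro k
    have ha' : 12 ∣ 2 * k ↔ ((a ^ k : Eˣ) : E) ^ 2 = 1 := by
      rw [show (12 : ℕ) = orderOf a by rw [ha], orderOf_dvd_iff_pow_eq_one, mul_comm, pow_mul,
        ← Units.val_pow_eq_pow_val, Units.val_eq_one]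
    rw [ha', ← map_pow, show dd a ^ k = dd (a ^ k) from (map_pow ddHom a k).symm, π_eq_one]
    constructor
    · rintro ⟨-, -, h⟩
      simp [dd] at h
      have hm : ((a ^ k : Eˣ) : E) * ((a ^ k : Eˣ) : E)⁻¹ = 1 := mul_inv_cancel₀ (Units.ne_zero _)
      push_cast at hm ⊢
      linear_combination hm + (a : E) ^ k * h
    · intro h
      refine ⟨by simp [dd], by simp [dd], ?_⟩
      have : ((a ^ k : Eˣ) : E) = ((a ^ k : Eˣ) : E)⁻¹ := eq_inv_of_mul_eq_one_left (by rw [← pow_two, h])
      simpa [dd] using this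
  refine orderOf_eq_iff (by norm_num) |>.2 ⟨(hiff 6).2 dvd_rfl, fun m hm hm0 h => ?_⟩
  have := Nat.le_of_dvd (by omega) ((hiff m).1 h)
  omega

end Cfsg.Agent.G2Three
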